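import Cfsg.Agent.H959.RV.Two
import Cfsg.Agent.H565.NoMin
import Cfsg.Agent.H553.GoodLems
import Cfsg.Agent.H556.SmallAb

/-!
# Groups whose elements of prime power order centralise the coprime subgroups they normalise are abelian (helper550)

* `mem_of_parts` : an element lies in `K` if its primary parts do;
* `comm_of_noMin` : Sylow subgroups abelian and `NoMin s t A` for all primes dividing `|A|` imply `A` abelian;
* `fTwo_of_oddClosed` : `FTwo π S` from a Hall `π`-subgroup whose elements of odd order form an abelian subgroup;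
* `fTwo_of_tame` : `FTwo π S` for `2 ∈ π`, `3 ∉ π`, from `Tame`.
-/

set_option autoImplicit false

namespace Cfsg.Agent.H550.RV

open Subgroup Cfsg Cfsg.Agent.H571.RV Cfsg.Agent.H553.ExtRed Cfsg.Agent.H565.NM Cfsg.Agent.H988.CPi

/-- an element lies in a subgroup if its primary parts do -/
theorem mem_of_parts {G : Type*} [Group G] [Finite G] {K : Subgroup G} :
    ∀ (n : ℕ) (g : G), orderOf g = n →
      (∀ t : ℕ, t.Prime → t ∣ orderOf g → ∀ y ∈ zpowers g, (∃ k : ℕ, y ^ t ^ k = 1) → y ∈ K) → g ∈ K := by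
  intro n
  induction n using Nat.strong_induction_on with
  | _ n ih =>
    intro g hg h
    by_cases h1 : orderOf g = 1
    · rw [orderOf_eq_one_iff] at h1
      rw [h1]; exact one_mem _
    obtain ⟨p, hp, hpd⟩ := Nat.exists_prime_and_dvd h1
    obtain ⟨a, m, hm, ham⟩ := Nat.exists_eq_pow_mul_and_not_dvd (orderOf_pos g).ne' p hp.ne_one
    have ha : a ≠ 0 := by
      rintro rfl
      rw [pow_zero, one_mul] at ham
      exact hm (ham ▸ hpd)
    have h2 : g ^ m ∈ K := by
      refine h p hp hpd _ (npow_mem_zpowers g m) ⟨a, ?_⟩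
      rw [← pow_mul, mul_comm, ← ham, pow_orderOf_eq_one]
    have hpa : p ^ a ∣ orderOf g := ham ▸ dvd_mul_right _ _
    have h3 : orderOf (g ^ p ^ a) = m := by
      rw [orderOf_pow_of_dvd (pow_ne_zero _ hp.ne_zero) hpa, ham]
      exact Nat.mul_div_cancel_left _ (pow_pos hp.pos _)
    have hm0 : 0 < m := Nat.pos_of_ne_zero (by
      rintro rfl
      exact hm (dvd_zero _))
    have h4 : m < n := by
      rw [← hg, ham]
      exact (Nat.lt_mul_iff_one_lt_left hm0).mpr (Nat.one_lt_pow ha hp.one_lt)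
    have h5 : g ^ p ^ a ∈ K := by
      refine ih m h4 _ h3 fun t ht htd y hy hk => h t ht ?_ y ?_ hk
      · exact htd.trans (orderOf_pow_dvd _)
      · exact (zpowers_le.mpr (npow_mem_zpowers g _)) hy
    exact mem_of_pow_mem_coprime h2 h5 ((Nat.Coprime.pow_left a ((Nat.Prime.coprime_iff_not_dvd hp).2 hm)).symm)

/-- **groups with `NoMin` and abelian Sylow subgroups are abelian** -/
theorem comm_of_noMin {A : Type*} [Group A] [Finite A]
    (hN : ∀ s t : ℕ, s.Prime → t.Prime → s ≠ t → s ∣ Nat.card A → t ∣ Nat.card A → NoMin s t A)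
    (hab : ∀ s : ℕ, s.Prime → s ∣ Nat.card A → ∀ P : Subgroup A, IsPGroup s P → ∀ a ∈ P, ∀ b ∈ P, a * b = b * a)
    (x y : A) : x * y = y * x := by
  have key : x * y * x⁻¹ * y⁻¹ = 1 := by
    rw [← orderOf_eq_one_iff]
    by_contra hne
    obtain ⟨s, hs, hsd⟩ := Nat.exists_prime_and_dvd hne
    have : Fact s.Prime := ⟨hs⟩
    have hsA : s ∣ Nat.card A := hsd.trans (orderOf_dvd_natCard _)
    obtain ⟨S⟩ : Nonempty (Sylow s A) := inferInstance
    have hS := hab s hs hsA S S.2
    have hNC : Subgroup.normalizer ((S : Subgroup A) : Set A) ≤ Subgroup.centralizer ((S : Subgroup A) : Set A) := by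
      intro g hg
      refine mem_of_parts _ g rfl fun t ht htd y hy hk => ?_
      have hyn : y ∈ Subgroup.normalizer ((S : Subgroup A) : Set A) := (zpowers_le.mpr hg) hy
      rw [Subgroup.mem_centralizer_iff]
      intro d hd
      by_cases hst : s = t
      · subst hst
        -- `y` lies in the normal Sylow subgroup
        have hyS : y ∈ (S : Subgroup A) := by
          have h1 : IsPGroup s (zpowers y) := by
            rw [IsPGroup.iff_orderOf]
            rintro ⟨z, hz⟩
            obtain ⟨k, hk⟩ := hk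
            obtain ⟨i, rfl⟩ := mem_zpowers_iff.mp hz
            have h2 : (⟨y ^ i, hz⟩ : zpowers y) ^ s ^ k = 1 := by
              apply Subtype.ext
              show (y ^ i) ^ s ^ k = 1
              rw [← zpow_natCast, ← zpow_mul, mul_comm, zpow_mul, zpow_natCast, hk, one_zpow]
            obtain ⟨j, -, hj⟩ := (Nat.dvd_prime_pow hs).mp (orderOf_dvd_of_pow_eq_one h2)
            exact ⟨j, hj⟩
          have h2 : IsPGroup s ((zpowers y ⊔ (S : Subgroup A) : Subgroup A)) :=
            IsPGroup.to_sup_of_normal_right' h1 S.2 (zpowers_le.mpr hyn)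
          have h3 := S.3 h2 le_sup_right
          rw [← h3]
          exact (le_sup_left : zpowers y ≤ _) (mem_zpowers y)
        exact hS d hd y hyS
      · have h1 := (hN s t hs ht hst hsA (htd.trans (orderOf_dvd_natCard _))).cen hs ht hst S.2 hk hyn d hd
        exact h1.symm
    have h2 := MonoidHom.not_dvd_card_ker_transferSylow S hNC
    apply h2
    have h3 : x * y * x⁻¹ * y⁻¹ ∈ (MonoidHom.transferSylow S hNC).ker := by
      have hcS : ∀ a b : S, a * b = b * a := fun a b => Subtype.ext (hS a a.2 b b.2)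
      rw [MonoidHom.mem_ker]
      simp only [map_mul, map_inv]
      rw [hcS (MonoidHom.transferSylow S hNC x) (MonoidHom.transferSylow S hNC y)]
      group
    refine hsd.trans ?_
    have h4 := orderOf_dvd_natCard (⟨_, h3⟩ : (MonoidHom.transferSylow S hNC).ker)
    rwa [Subgroup.orderOf_mk] at h4
  calc x * y = (x * y * x⁻¹ * y⁻¹) * (y * x) := by group
    _ = y * x := by rw [key, one_mul]

/-- `FTwo π S` from a Hall `π`-subgroup whose elements of odd order form an abelian subgroup -/
theorem fTwo_of_oddClosed {π : Set ℕ} {S : Type*} [Group S] [Finite S] {H : Subgroup S} (hH : IsPiHall π H)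
    (hcl : OddClosed H) (hab : ∀ x ∈ H, ∀ y ∈ H, Odd (orderOf x) → Odd (orderOf y) → x * y = y * x) :
    H959.RV.FTwo π S := by
  let A : Subgroup S :=
    { carrier := {x | x ∈ H ∧ Odd (orderOf x)}
      one_mem' := ⟨H.one_mem, by rw [orderOf_one]; exact odd_one⟩
      mul_mem' := by
        rintro x y ⟨hx, hx1⟩ ⟨hy, hy1⟩
        refine ⟨H.mul_mem hx hy, ?_⟩
        have h1 := hcl ⟨x, hx⟩ ⟨y, hy⟩ (by rwa [Subgroup.orderOf_mk]) (by rwa [Subgroup.orderOf_mk])
        rw [← Subgroup.orderOf_coe] at h1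
        exact h1
      inv_mem' := by
        rintro x ⟨hx, hx1⟩
        exact ⟨H.inv_mem hx, by rwa [orderOf_inv]⟩ }
  have hAH : A ≤ H := fun x hx => hx.1
  refine ⟨H, A, hH, hAH, ?_, fun a ha b hb => hab a ha.1 b hb.1 ha.2 hb.2, ?_, ?_⟩
  · intro g hg
    rw [Subgroup.mem_normalizer_iff]
    intro x
    have h1 : orderOf (g * x * g⁻¹) = orderOf x := by
      have := orderOf_injective (MulAut.conj g).toMonoidHom (MulAut.conj g).injective x
      exact this
    constructor
    · rintro ⟨hx, hx1⟩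
      exact ⟨H.mul_mem (H.mul_mem hg hx) (H.inv_mem hg), by rw [h1]; exact hx1⟩
    · rintro ⟨hx, hx1⟩
      refine ⟨?_, by rwa [h1] at hx1⟩
      have := H.mul_mem (H.mul_mem (H.inv_mem hg) hx) hg
      simpa [mul_assoc] using this
  · intro hd
    have : Fact (Nat.Prime 2) := ⟨Nat.prime_two⟩
    obtain ⟨x, hx⟩ := exists_prime_orderOf_dvd_card' (G := A) 2 hd
    have h1 := x.2.2
    rw [Subgroup.orderOf_coe, hx] at h1
    exact absurd h1 (by decide)
  · intro p hp hd
    have hn : (A.subgroupOf H).Normal := by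
      refine ⟨fun x hx g => ?_⟩
      rw [Subgroup.mem_subgroupOf] at hx ⊢
      have h1 : orderOf ((g : S) * x * (g : S)⁻¹) = orderOf (x : S) := by
        have := orderOf_injective (MulAut.conj (g : S)).toMonoidHom (MulAut.conj (g : S)).injective (x : S)
        exact this
      exact ⟨(g * x * g⁻¹ : H).2, by
        show Odd (orderOf ((g : S) * x * (g : S)⁻¹))
        rw [h1]; exact hx.2⟩
    have hq : p ∣ Nat.card (H ⧸ A.subgroupOf H) := hd
    have : Fact p.Prime := ⟨hp⟩
    obtain ⟨y, hy⟩ := exists_prime_orderOf_dvd_card' (G := H ⧸ A.subgroupOf H) p hq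
    obtain ⟨x, rfl⟩ := QuotientGroup.mk_surjective y
    obtain ⟨k, m, hm, hkm⟩ := Nat.exists_eq_two_pow_mul_odd (orderOf_pos x).ne'
    have h2 : x ^ 2 ^ k ∈ A.subgroupOf H := by
      rw [Subgroup.mem_subgroupOf]
      refine ⟨(x ^ 2 ^ k).2, ?_⟩
      rw [Subgroup.orderOf_coe]
      exact odd_orderOf_of_pow hm (by rw [← pow_mul, ← hkm, pow_orderOf_eq_one])
    have h3 : (x : H ⧸ A.subgroupOf H) ^ 2 ^ k = 1 := by
      rw [← QuotientGroup.mk_pow]
      exact (QuotientGroup.eq_one_iff _).mpr h2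
    have h4 := orderOf_dvd_of_pow_eq_one h3
    rw [hy] at h4
    exact (Nat.prime_dvd_prime_iff_eq hp Nat.prime_two).mp (hp.dvd_of_dvd_pow h4)

/-- the `s`-subgroups of `S` are abelian and no primary element of coprime order acts on them, `s ∈ σ` -/
structure Tame (σ : Set ℕ) (S : Type*) [Group S] : Prop where
  nomin : ∀ s t : ℕ, s.Prime → t.Prime → s ≠ t → s ∈ σ → t ∈ σ → NoMin s t S
  ab : ∀ s : ℕ, s.Prime → s ∈ σ → ∀ P : Subgroup S, IsPGroup s P → ∀ a ∈ P, ∀ b ∈ P, a * b = b * a

theorem Tame.comm {σ : Set ℕ} {S : Type*} [Group S] [Finite S] (h : Tame σ S) {A : Subgroup S}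
    (hA : PiN σ (Nat.card A)) : ∀ a ∈ A, ∀ b ∈ A, a * b = b * a := by
  have h1 : ∀ x y : A, x * y = y * x := by
    refine comm_of_noMin (fun s t hs ht hst hsd htd =>
      (h.nomin s t hs ht hst (hA s hs hsd) (hA t ht htd)).subgroup A) fun s hs hsd P hP a ha b hb => ?_
    apply Subtype.ext
    exact h.ab s hs (hA s hs hsd) (P.map A.subtype) (hP.map _) a (mem_map_of_mem _ ha) b (mem_map_of_mem _ hb)
  intro a ha b hb
  exact congrArg Subtype.val (h1 ⟨a, ha⟩ ⟨b, hb⟩)

/-- `FTwo` from the odd elements of a Hall subgroup -/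
theorem fTwo_of_tame {π : Set ℕ} {S : Type*} [Group S] [Finite S] (hT : Tame (π \ {2}) S) {H : Subgroup S}
    (hH : IsPiHall π H) (hcl : OddClosed H) : H959.RV.FTwo π S := by
  refine fTwo_of_oddClosed hH hcl ?_
  have h1 : PiN (π \ {2}) (Nat.card ((oddSub hcl).map H.subtype)) := by
    intro p hp hd
    rw [← Nat.card_congr ((oddSub hcl).equivMapOfInjective H.subtype H.subtype_injective).toEquiv] at hd
    refine ⟨hH.1 p hp (hd.trans (card_subgroup_dvd_card _)), ?_⟩
    rintro rfl
    exact (Nat.not_even_iff_odd.mpr (odd_card_oddSub hcl)) (even_iff_two_dvd.mpr hd)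
  intro x hx y hy hxo hyo
  refine hT.comm h1 x ?_ y ?_
  · exact ⟨⟨x, hx⟩, by rw [SetLike.mem_coe, mem_oddSub, Subgroup.orderOf_mk]; exact hxo, rfl⟩
  · exact ⟨⟨y, hy⟩, by rw [SetLike.mem_coe, mem_oddSub, Subgroup.orderOf_mk]; exact hyo, rfl⟩

end Cfsg.Agent.H550.RV
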