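import Cfsg.Agent.H550.RV.NoMinAb
import Cfsg.Agent.H959.RV.Boxes
import Cfsg.Agent.H565.NoMinExc
import Cfsg.Agent.H556.GoodGTwo

/-!
# Box R3 of TEAM RV for `G₂(q)` and `³D₄(q)` (helper550)

`2 ∈ π`, `3 ∉ π`, `p ∉ π`: a Hall `π`-subgroup of `G₂(q)` or `³D₄(q)` has a normal `2`-complement (helper556), and this is
abelian, since `s`-subgroups are toral for the primes `s ≥ 5` (which do not divide `|W|`).

* `tame_untw`, `tame_g2`, `tame_d4` : `Tame`;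
* `fTwo_g2`, `fTwo_d4` : `DB π S → FTwo π S`; `r3_g2`, `r3_d4` : `DB π S → Out3 π S`.
-/

set_option autoImplicit false

namespace Cfsg.Agent.H550.RV

open Subgroup CoxeterSystem Cfsg Cfsg.Lie Cfsg.Lie.ChevalleyDatum
open Cfsg.Agent.H988.CPi Cfsg.Agent.H571.RV Cfsg.Agent.H553.ExtRed Cfsg.Agent.H565.NM Cfsg.Agent.H959.RV
open Cfsg.Agent.Nodes.RGDChev Cfsg.Agent.H795.SetTor Cfsg.Agent.H795.RowsA Cfsg.Agent.H565.T3
  Cfsg.Agent.BpExc.RowsUntw Cfsg.Agent.H129.TorusChar Cfsg.Agent.GpExc.Field Cfsg.Agent.H720.TwFr Cfsg.Agent.BpExc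
  Cfsg.Agent.BpExc.TorChev Cfsg.Agent.BpExc.TowChev

universe u

section Toral

variable {D : ChevalleyDatum} {l : ℕ} {M : CoxeterMatrix (Fin l)} (hp : IsType D l M)
  (r : ℕ) [Fact r.Prime] {k : Type u} [Field k] [CharP k r] [IsAlgClosed k]

include hp r in
/-- **a group embedded in a Chevalley group over a locally finite algebraically closed field is tame** -/
theorem tame_of_embedding (hk : LocFin k) {G : Type*} [Group G] [Finite G] {f : G →* ↥(D.group k)}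
    (hf : Function.Injective f) {σ : Set ℕ} (hr : r ∉ σ) (hW : ∀ s : ℕ, s.Prime → s ∈ σ → ¬ s ∣ Nat.card M.Group) :
    Tame σ G where
  nomin := fun s t hs ht _ hsσ htσ => noMin_of_not_dvd hp r hk hf (fun h => hr (h ▸ hsσ)) (hW s hs hsσ) (hW t ht htσ)
  ab := fun s hs hsσ P hP a ha b hb => by
    have : Fact s.Prime := ⟨hs⟩
    obtain ⟨g, hg⟩ := exists_g_of_not_dvd hp r hk f hs (fun h => hr (h ▸ hsσ)) (hW s hs hsσ) hP
    apply hf
    have h1 := TT_comm hp _ (hg a ha) _ (hg b hb)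
    rw [map_mul, map_mul]
    have h2 : g * (f a * f b) * g⁻¹ = g * (f b * f a) * g⁻¹ := by
      calc g * (f a * f b) * g⁻¹ = (g * f a * g⁻¹) * (g * f b * g⁻¹) := by group
        _ = (g * f b * g⁻¹) * (g * f a * g⁻¹) := h1
        _ = g * (f b * f a) * g⁻¹ := by group
    exact mul_left_cancel (mul_right_cancel h2)

end Toral

theorem Tame.of_equiv {σ : Set ℕ} {S S' : Type*} [Group S] [Group S'] (e : S ≃* S') (h : Tame σ S') : Tame σ S where
  nomin := fun s t hs ht hst hsσ htσ => (h.nomin s t hs ht hst hsσ htσ).of_equiv e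
  ab := fun s hs hsσ P hP a ha b hb => by
    have h1 := h.ab s hs hsσ (P.map e.toMonoidHom) (hP.map _) (e a) (mem_map_of_mem _ ha) (e b) (mem_map_of_mem _ hb)
    rw [← map_mul, ← map_mul] at h1
    exact e.injective h1

/-- the untwisted groups -/
theorem tame_untw {D : ChevalleyDatum} {l : ℕ} {M : CoxeterMatrix (Fin l)} (hp : IsType D l M)
    {F : Type u} [Field F] [Finite F] {σ : Set ℕ} {p : ℕ} [hc : CharP F p] (hpσ : p ∉ σ)
    (hW : ∀ s : ℕ, s.Prime → s ∈ σ → ¬ s ∣ Nat.card M.Group) : Tame σ ↥(D.group F) := by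
  have := Fintype.ofFinite F
  obtain ⟨r, e, hr, hrF, hrk, he, hq', hk⟩ := H129.TorusUntw.exists_closure (F := F) rfl
  have hrp : r = p := CharP.eq F hrF hc
  exact tame_of_embedding hp r hk (f := emb hp.inList (algebraMap F (AlgebraicClosure F)))
    (emb_injective hp.inList _) (hrp ▸ hpσ) hW

theorem not_dvd_of_mem {π : Set ℕ} (h3 : 3 ∉ π) {s : ℕ} (hs : s.Prime) (hsσ : s ∈ π \ {2}) : 5 ≤ s := by
  by_contra h
  push Not at h
  interval_cases s
  · exact absurd hs (by norm_num)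
  · exact absurd hs (by norm_num)
  · exact hsσ.2 rfl
  · exact h3 hsσ.1
  · exact absurd hs (by norm_num)

theorem tame_g2 {π : Set ℕ} (h3 : 3 ∉ π) {F : Type u} [Field F] [Finite F] {p : ℕ} [CharP F p] (hpπ : p ∉ π) :
    Tame (π \ {2}) ↥(chevG2.group F) :=
  tame_untw g2T (fun h => hpπ h.1) fun s hs hsσ => by
    rw [card_G2]
    exact not_dvd_12 hs (not_dvd_of_mem h3 hs hsσ)

theorem tame_d4 {π : Set ℕ} (h3 : 3 ∉ π) {K : Type u} [Field K] [Fintype K] {q : ℕ} (hq : IsPrimePow q)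
    (hK : Fintype.card K = q ^ 3) {p : ℕ} [hc : CharP K p] (hpπ : p ∉ π) :
    Tame (π \ {2}) ↥(twistedD4 K q) := by
  obtain ⟨r, n, hr, hrF, hrk, hn0, hn, hk⟩ := H795.Tw.exists_closure_q three_ne_zero hq hK
  have hrp : r = p := CharP.eq K hrF hc
  exact tame_of_embedding hp4 r hk (f := em4 (algebraMap K (AlgebraicClosure K)) (tw4_le hq hK))
    (em4_injective _ _) (fun h => hpπ (hrp ▸ h.1)) fun s hs hsσ => by
      rw [card_D4]
      exact not_dvd_192 hs (not_dvd_of_mem h3 hs hsσ)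

variable {π : Set ℕ} {S : Type u} [Group S] [Finite S]

omit [Finite S] in
/-- `DB` gives a Hall subgroup -/
theorem exists_hall_of_db (h : DB π S) : ∃ H : Subgroup S, IsPiHall π H := by
  obtain ⟨L, hL, -⟩ := h.dom ⊥ (by
    intro p hp hd
    rw [Subgroup.card_bot] at hd
    exact absurd (Nat.dvd_one.mp hd) hp.one_lt.ne')
  exact ⟨L, hL⟩

open Cfsg.Agent.ClassificationK.GTwoModel in
/-- `FTwo` for a tame group with Sylow `2`-subgroups of type `G₂(q)` -/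
theorem fTwo_of_type (h2 : 2 ∈ π) (h3 : 3 ∉ π) (hDB : DB π S) (hTm : Tame (π \ {2}) S)
    (hT : ∀ Q : Sylow 2 S, ∃ k : ℕ, 1 ≤ k ∧ Nonempty (T (2 * 2 ^ k) ≃* Q)) : FTwo π S := by
  obtain ⟨H, hH⟩ := exists_hall_of_db hDB
  have hi : ¬ 2 ∣ H.index := hH.2 2 Nat.prime_two h2
  have hc3 : ¬ 3 ∣ Nat.card H := fun hd => h3 (hH.1 3 Nat.prime_three hd)
  obtain ⟨P⟩ : Nonempty (Sylow 2 H) := inferInstance
  obtain ⟨Q, ⟨e⟩⟩ := H556.GTwoNil.exists_sylow_equiv H hi P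
  obtain ⟨k, hk, ⟨e'⟩⟩ := hT Q
  exact fTwo_of_tame hTm hH (H556.GTwoNil.oddClosed hk hc3 P (e'.trans e))

/-- `FTwo` for `G₂(q)` -/
theorem fTwo_g2 (h2 : 2 ∈ π) (h3 : 3 ∉ π) {p : ℕ} (hp : p.Prime) (hpπ : p ∉ π) (F : Type) [Field F] [Fintype F]
    [CharP F p] (he : Nonempty (S ≃* Lie.chevG2.group F)) (hDB : DB π S) : FTwo π S := by
  obtain ⟨e⟩ := he
  have hF : Odd (Fintype.card F) := H556.GTwoNil.odd_card (p := p) h2 hp hpπ
  exact fTwo_of_type h2 h3 hDB ((tame_g2 h3 hpπ).of_equiv e)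
    (H556.GTwoNil.sylow_of_equiv e
      (Cfsg.Agent.ClassificationK.GTwoSylow.exists_equiv hF (Cfsg.Agent.S1059.result (F := F) rfl)))

/-- **Box R3 for `G₂(q)`.** -/
theorem r3_g2 (h2 : 2 ∈ π) (h3 : 3 ∉ π) {p : ℕ} (hp : p.Prime) (hpπ : p ∉ π) (F : Type) [Field F] [Fintype F]
    [CharP F p] (_h3F : 3 ≤ Fintype.card F) (he : Nonempty (S ≃* Lie.chevG2.group F)) (hDB : DB π S) : Out3 π S :=
  Or.inr (fTwo_g2 h2 h3 hp hpπ F he hDB).fhall

/-- `FTwo` for `³D₄(q)` -/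
theorem fTwo_d4 (h2 : 2 ∈ π) (h3 : 3 ∉ π) {p : ℕ} (hp : p.Prime) (hpπ : p ∉ π) (F : Type) [Field F] [Fintype F]
    [CharP F p] (q : ℕ) (hq : IsPrimePow q) (hF : Fintype.card F = q ^ 3)
    (he : Nonempty (S ≃* Lie.twistedD4 F q)) (hDB : DB π S) : FTwo π S := by
  obtain ⟨e⟩ := he
  have h := H556.GTwoNil.odd_card (F := F) (p := p) h2 hp hpπ
  rw [hF] at h
  have hqo : Odd q := by
    rw [← Nat.not_even_iff_odd]
    intro he
    exact (Nat.not_even_iff_odd.mpr h) (he.pow_of_ne_zero (by norm_num))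
  refine fTwo_of_type h2 h3 hDB ((tame_d4 h3 hq hF hpπ).of_equiv e) (H556.GTwoNil.sylow_of_equiv e fun Q => ?_)
  obtain ⟨k, _, hk, _, _, h⟩ := Cfsg.Agent.H285.D4Sylow.exists_equiv hqo hF Q
  exact ⟨k, hk, h⟩

/-- **Box R3 for `³D₄(q)`.** -/
theorem r3_d4 (h2 : 2 ∈ π) (h3 : 3 ∉ π) {p : ℕ} (hp : p.Prime) (hpπ : p ∉ π) (F : Type) [Field F] [Fintype F]
    [CharP F p] (q : ℕ) (hq : IsPrimePow q) (hF : Fintype.card F = q ^ 3)
    (he : Nonempty (S ≃* Lie.twistedD4 F q)) (hDB : DB π S) : Out3 π S :=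
  Or.inr (fTwo_d4 h2 h3 hp hpπ F q hq hF he hDB).fhall

end Cfsg.Agent.H550.RV
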